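import Groth.Agent.Pic13.K243.Diff
import Mathlib.Analysis.SpecificLimits.Basic

/-!
# Functions on `ℤ` with vanishing iterated differences: the leading term
-/

set_option autoImplicit false

open Filter Topology K243.Diff

namespace K675.DiffLim

theorem exists_ev (r : ℕ) {h : ℤ → ℤ} (hh : nab^[r] h = 0) : ∃ a : Fin r → ℤ, h = ev a := by
  induction r generalizing h with
  | zero => exact ⟨Fin.elim0, by rw [ev_zero]; exact hh⟩
  | succ r ih =>
    rw [Function.iterate_succ_apply] at hh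
    obtain ⟨a, ha⟩ := ih hh
    have h1 : nab (h - ev (Fin.cons 0 a : Fin (r + 1) → ℤ)) = 0 := by
      rw [nab_sub, nab_ev, ha]
      simp only [Fin.cons_succ, sub_self]
    refine ⟨Fin.cons ((h - ev (Fin.cons 0 a : Fin (r + 1) → ℤ)) 0) a, ?_⟩
    funext m
    have h2 := const_of_nab h1 m 0
    rw [Pi.sub_apply, sub_eq_iff_eq_add] at h2
    rw [h2]
    simp only [ev, Fin.sum_univ_succ, Fin.cons_zero, Fin.cons_succ, cc_zero, Fin.val_zero]
    ring

theorem tendsto_cc (j : ℕ) :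
    Tendsto (fun t : ℕ => ((cc j (t : ℤ) : ℤ) : ℝ) / (t : ℝ) ^ j) atTop (𝓝 (1 / (j.factorial : ℝ))) := by
  induction j with
  | zero =>
    simp only [cc_zero, pow_zero, Nat.factorial_zero, Nat.cast_one, div_one, Int.cast_one]
    exact tendsto_const_nhds
  | succ j ih =>
    have h1 : Tendsto (fun t : ℕ => 1 + ((j : ℝ) + 1) / (t : ℝ)) atTop (𝓝 (1 + 0)) :=
      tendsto_const_nhds.add (tendsto_const_div_atTop_nhds_zero_nat _)
    have h2 := (ih.mul h1).div_const ((j : ℝ) + 1)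
    have h3 : 1 / (j.factorial : ℝ) * (1 + 0) / ((j : ℝ) + 1) = 1 / ((j + 1).factorial : ℝ) := by
      rw [Nat.factorial_succ]
      push_cast
      field_simp
      ring
    rw [h3] at h2
    refine h2.congr' ?_
    filter_upwards [eventually_gt_atTop 0] with t ht
    have ht' : (t : ℝ) ≠ 0 := by exact_mod_cast ht.ne'
    have h4 : ((cc (j + 1) (t : ℤ) : ℤ) : ℝ) * ((j : ℝ) + 1) =
        ((cc j (t : ℤ) : ℤ) : ℝ) * ((t : ℝ) + (j + 1)) := by
      rw [cc_natCast, cc_natCast]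
      have h5 := Nat.add_one_mul_choose_eq (t + j) j
      have h6 : ((t + (j + 1)).choose (j + 1) : ℝ) * ((j : ℝ) + 1) =
        ((t : ℝ) + j + 1) * ((t + j).choose j : ℝ) := by
        have := congrArg (fun n : ℕ => (n : ℝ)) h5
        push_cast at this
        rw [← add_assoc, ← this]
      push_cast
      rw [h6]
      ring
    have h7 : ((cc (j + 1) (t : ℤ) : ℤ) : ℝ) =
        ((cc j (t : ℤ) : ℤ) : ℝ) * ((t : ℝ) + (j + 1)) / ((j : ℝ) + 1) := by
      rw [← h4]
      field_simp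
    rw [h7]
    field_simp
    ring

theorem tendsto_cc_lt {j r : ℕ} (hj : j < r) :
    Tendsto (fun t : ℕ => ((cc j (t : ℤ) : ℤ) : ℝ) / (t : ℝ) ^ r) atTop (𝓝 0) := by
  obtain ⟨s, rfl⟩ := Nat.exists_eq_add_of_lt hj
  have h1 : Tendsto (fun t : ℕ => (1 : ℝ) / (t : ℝ) ^ (s + 1)) atTop (𝓝 0) := by
    have h2 : Tendsto (fun t : ℕ => (t : ℝ) ^ (s + 1)) atTop atTop :=
      (tendsto_pow_atTop (Nat.succ_ne_zero s)).comp tendsto_natCast_atTop_atTop
    refine h2.inv_tendsto_atTop.congr fun t => ?_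
    rw [one_div]
    rfl
  have h2 := (tendsto_cc j).mul h1
  rw [mul_zero] at h2
  refine h2.congr fun t => ?_
  rw [div_mul_div_comm, mul_one, ← pow_add]
  rfl

/-- The leading term of a function with vanishing `(r+1)`-st difference. -/
theorem tendsto_of_nab (r : ℕ) {h : ℤ → ℤ} (hh : nab^[r + 1] h = 0) :
    Tendsto (fun t : ℕ => ((h (t : ℤ) : ℤ) : ℝ) / (t : ℝ) ^ r) atTop
      (𝓝 (((nab^[r] h) 0 : ℝ) / (r.factorial : ℝ))) := by
  obtain ⟨a, rfl⟩ := exists_ev (r + 1) hh
  have h1 : (nab^[r] (ev a)) 0 = a (Fin.last r) := by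
    have h2 : ev a = ev (fun j : Fin (1 + r) => a (Fin.cast (add_comm 1 r) j)) := by
      funext m
      simp only [ev]
      exact (Fin.castOrderIso (add_comm 1 r)).toEquiv.sum_comp
        (fun j : Fin (r + 1) => a j * cc j m) |>.symm
    rw [h2, nab_iter_ev_add]
    simp only [ev, Finset.univ_unique, Finset.sum_singleton, Fin.default_eq_zero, Fin.val_zero, cc_zero,
      mul_one]
    congr 1
    ext
    simp
  rw [h1]
  have h3 : ∀ t : ℕ, ((ev a (t : ℤ) : ℤ) : ℝ) / (t : ℝ) ^ r =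
      ∑ j : Fin (r + 1), (a j : ℝ) * (((cc j (t : ℤ) : ℤ) : ℝ) / (t : ℝ) ^ r) := by
    intro t
    simp only [ev]
    push_cast
    rw [Finset.sum_div]
    exact Finset.sum_congr rfl fun j _ => mul_div_assoc _ _ _
  simp only [h3]
  have h4 : ((a (Fin.last r) : ℤ) : ℝ) / (r.factorial : ℝ) =
      ∑ j : Fin (r + 1), (a j : ℝ) * (if j = Fin.last r then 1 / (r.factorial : ℝ) else 0) := by
    rw [Finset.sum_eq_single (Fin.last r)]
    · rw [if_pos rfl, mul_one_div]
    · intro j _ hj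
      rw [if_neg hj, mul_zero]
    · intro h
      exact absurd (Finset.mem_univ _) h
  rw [h4]
  refine tendsto_finsetSum _ fun j _ => Tendsto.const_mul _ ?_
  split_ifs with hj
  · subst hj
    exact tendsto_cc r
  · exact tendsto_cc_lt (lt_of_le_of_ne (Nat.lt_succ_iff.mp j.2) (fun h => hj (Fin.ext h)))

end K675.DiffLim
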