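import Groth.Agent.CurvesB.SepLift
import Groth.Agent.Grpsch.CubeLift

/-!
# Surjectivity of the restriction of global sections of a line bundle to a closed subscheme
-/

set_option autoImplicit false
universe u

open AlgebraicGeometry CategoryTheory Limits TopologicalSpace Opposite
open Groth.Agent Groth.Agent.Fdesc.LocGen Groth.Agent.Ega2 Groth.Agent.CurvesB

namespace K675.SurjRestr

variable {X P : Scheme.{u}} (ι : X ⟶ P) [IsClosedImmersion ι] {L : P.Modules}

theorem app_eq_zero_iff {V : P.Opens} (hV : IsAffineOpen V) (a : Γ(P, V)) :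
    ι.app V a = 0 ↔ ι.ker.subschemeι.app V a = 0 := by
  have h1 := congrArg (fun J : Ideal Γ(P, V) => a ∈ J) (Scheme.Hom.ker_apply ι ⟨V, hV⟩)
  have h2 := congrArg (fun J : Ideal Γ(P, V) => a ∈ J)
    (Scheme.IdealSheafData.ker_subschemeι_app ι.ker ⟨V, hV⟩)
  simp only [RingHom.mem_ker] at h1 h2
  exact (h1.symm.trans h2.symm ▸ Iff.rfl)

theorem pullSec_eq_zero_iff (hL : PicF.IsInvertible L) {U : P.Opens} (s : Γ(L, U)) :
    pullSec ι s = 0 ↔ (SepLift.pr ι.ker L).app U s = 0 := by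
  constructor
  · intro h
    refine Tens.eq_of_locally_eq _ _ _ fun x hx => ?_
    obtain ⟨V, e, hxV, hVU, hV, he⟩ := TensGen.exists_affine_gen hL x hx
    refine ⟨V, homOfLE hVU, hxV, ?_⟩
    obtain ⟨a, ha⟩ := he.exists_eq (res L hVU s)
    change res _ hVU ((SepLift.pr ι.ker L).app U s) = res _ hVU 0
    rw [← app_res, ha, map_zero]
    refine SepLift.pr_eq_zero_of_coeff ι.ker e a ?_
    rw [← app_eq_zero_iff ι hV]
    refine (he.pullSec ι).ext ?_
    rw [zero_smul, ← pullSec_smul, ← ha, ← res_pullSec, h, map_zero]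
  · intro h
    refine Tens.eq_of_locally_eq _ _ _ fun x hx => ?_
    obtain ⟨V, e, hxV, hVU, hV, he⟩ := TensGen.exists_affine_gen hL (ι x) hx
    refine ⟨ι ⁻¹ᵁ V, homOfLE (Scheme.Hom.preimage_mono ι hVU), hxV, ?_⟩
    obtain ⟨a, ha⟩ := he.exists_eq (res L hVU s)
    change res _ (Scheme.Hom.preimage_mono ι hVU) (pullSec ι s) =
      res _ (Scheme.Hom.preimage_mono ι hVU) 0
    rw [res_pullSec ι hVU, map_zero, ha, pullSec_smul]
    have h1 : ι.app V a = 0 := by
      rw [app_eq_zero_iff ι hV]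
      refine SepLift.exists_coeff_of_pr_eq_zero ι.ker hL he (res L hVU s) ?_ a ha
      rw [app_res, h, map_zero]
    rw [h1, zero_smul]

omit [IsClosedImmersion ι] in
theorem pullSec_sub {U : P.Opens} (s t : Γ(L, U)) : pullSec ι (s - t) = pullSec ι s - pullSec ι t := by
  rw [eq_sub_iff_add_eq, ← pullSec_add, sub_add_cancel]

/-- **Global sections of an invertible module lift from a closed subscheme** as soon as
`H^1(I ⊗ L) = 0`. -/
theorem exists_pullSec_eq_top (hL : PicF.IsInvertible L)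
    (h1 : Subsingleton (Coh.HH P (CohB1.tensorMod (ClSub.idealMod ι.ker) L) 1))
    (s' : Γ((Scheme.Modules.pullback ι).obj L, ι ⁻¹ᵁ ⊤)) : ∃ s : Γ(L, ⊤), pullSec ι s = s' := by
  -- local lifts on affine opens
  have hloc : ∀ W : P.affineOpens, ∃ σ : Γ(L, (W : P.Opens)), pullSec ι σ =
      res _ (Scheme.Hom.preimage_mono ι (le_top : (W : P.Opens) ≤ ⊤)) s' := fun W =>
    Grpsch.CubeLift.pullSec_surjective ι hL W.2 _
  choose σ hσ using hloc
  let O : P.affineOpens → P.Opens := fun W => W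
  have hcov : (⊤ : P.Opens) ≤ ⨆ W, O W := by
    intro y _
    obtain ⟨U, hU, hyU, -⟩ := Opens.isBasis_iff_nbhd.mp P.isBasis_affineOpens
      (show y ∈ (⊤ : P.Opens) from trivial)
    exact Opens.mem_iSup.mpr ⟨⟨U, hU⟩, hyU⟩
  obtain ⟨t, ht⟩ := res_glue (cokernel (SepLift.mu ι.ker L)) O (fun _ => le_top) hcov
    (fun W => (SepLift.pr ι.ker L).app (W : P.Opens) (σ W)) (by
      intro i j
      rw [← app_res, ← app_res, ← sub_eq_zero, ← map_sub]
      rw [← pullSec_eq_zero_iff ι hL, pullSec_sub, ← res_pullSec, ← res_pullSec, hσ, hσ, res_res,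
        res_res, sub_self])
  obtain ⟨s, hs⟩ := SepLift.pr_surjective ι.ker hL h1 t
  refine ⟨s, ?_⟩
  refine Tens.eq_of_locally_eq _ _ _ fun x hx => ?_
  obtain ⟨U, hU, hyU, -⟩ := Opens.isBasis_iff_nbhd.mp P.isBasis_affineOpens
      (show ι x ∈ (⊤ : P.Opens) from trivial)
  refine ⟨ι ⁻¹ᵁ U, homOfLE (Scheme.Hom.preimage_mono ι le_top), hyU, ?_⟩
  change res _ (Scheme.Hom.preimage_mono ι (le_top : U ≤ ⊤)) (pullSec ι s) =
    res _ (Scheme.Hom.preimage_mono ι (le_top : U ≤ ⊤)) s'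
  rw [res_pullSec, ← hσ ⟨U, hU⟩, ← sub_eq_zero, ← pullSec_sub, pullSec_eq_zero_iff ι hL, map_sub,
    app_res, hs, sub_eq_zero]
  exact ht ⟨U, hU⟩

end K675.SurjRestr
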