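import Groth.Agent.Zeta.K467.ProjPt
import Groth.Agent.Zeta.K675.SurjRestr
import Groth.Agent.Zeta.K675.DiffLim
import Groth.Agent.Constr.K591.ProjQuot
import Groth.Agent.Pic13.K243.Hilb
import Groth.Agent.Curves.K330.FormSec
import Groth.Agent.ProjAut.K654.PnSec
import Groth.Agent.CurvesC.DualDeg
import Groth.Agent.Fga.EulerLEAdd
import Groth.Agent.CohqA.ProjDim
import Groth.Agent.S0847
import Groth.Agent.S5749

/-!
# The Hilbert function of a closed subscheme of projective space and the degree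

`tendsto_hilb`: for `X` integral of dimension `r`, closed in `P^N_k`, with homogeneous ideal `I`,
`dim_k (S / I)_t / t ^ r → (O(-1) ^ r; O_X) / r!`.
-/

set_option autoImplicit false
universe u

open CategoryTheory AlgebraicGeometry Limits TopologicalSpace Opposite
open Groth.Agent Filter Topology

namespace K675.Hilb

section

variable {k : Type u} [Field k] {N : ℕ} {X : Scheme.{u}} (ι : X ⟶ CohB1.ProjSpace N k)
  [IsClosedImmersion ι]

open Groth.Agent.Ega2.H291.ProjClosed in
theorem sec'_eq_zero_iff_mem {d : ℕ} (G : LefPen.Form N k d) :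
    K330.FormSec.sec' ι G = 0 ↔ (G : MvPolynomial (Fin (N + 1)) k) ∈ K467.ProjPt.hI ι := by
  have hcl : @IsClosedImmersion X (Proj (CohB1.polyGrading N k)) ι := ‹IsClosedImmersion ι›
  have h1 := K591.ProjQuot.pullSec_eq_zero_iff (𝒜 := CohB1.polyGrading N k) (ι := Fin (N + 1))
    (fun i => MvPolynomial.X i) (fun i => Sga5.ProjChart.X_mem N k i) K467.ProjPt.irrelevant_le_span
    (Z := X) ι (d := d) G.2
  have h2 := mem_idl_iff_of_mem (𝒜 := CohB1.polyGrading N k) (ι := Fin (N + 1))
    (fun i => MvPolynomial.X i) (fun i => Sga5.ProjChart.X_mem N k i)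
    (Scheme.Hom.ker (Y := Proj (CohB1.polyGrading N k)) ι) (d := d) G.2
  exact h1.trans h2.symm

theorem exists_surj : ∃ t₀ : ℕ, ∀ t : ℕ, t₀ ≤ t → Function.Surjective
    (fun G : LefPen.Form N k t => K330.FormSec.sec' ι G) := by
  have hN : IsNoetherian (CohB1.ProjSpace N k) := by
    exact Groth.Agent.S2357.result (CohB1.polyGrading N k)
  obtain ⟨d₀, hd₀⟩ := Groth.Agent.S0847.result (CohB1.polyGrading N k)
    (ClSub.idealMod (Scheme.Hom.ker (Y := CohB1.ProjSpace N k) ι))
    (CurvesC.DualDeg.isCoh_idealMod (X := CohB1.ProjSpace N k) _) 1 one_pos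
  refine ⟨d₀.toNat, fun t ht s' => ?_⟩
  have h1 := hd₀ (t : ℤ) (by omega)
  obtain ⟨s, hs⟩ := SurjRestr.exists_pullSec_eq_top ι
    (L := Twist.twistProjSpace N k (t : ℤ)) (Sga67.SerreVB.isInvertible_twist N k t) h1 s'
  obtain ⟨G, hG⟩ := (K654.AutPn.gl_bijective t).2 s
  refine ⟨G, ?_⟩
  rw [← hs, ← hG]
  rfl

end

section

variable (k : Type u) [Field k] {N : ℕ} {X : Scheme.{u}} [X.Over (Spec (CommRingCat.of k))]
  (ι : X ⟶ CohB1.ProjSpace N k) [IsClosedImmersion ι]
  (hι : ι ≫ CohB1.ProjSpace.toSpec N k = X ↘ Spec (CommRingCat.of k))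

include hι in
theorem exists_finrank_eq : ∃ t₀ : ℕ, ∀ t : ℕ, t₀ ≤ t →
    Module.finrank k ((MvPolynomial.homogeneousSubmodule (Fin (N + 1)) k t).map
      (Ideal.Quotient.mkₐ k (K467.ProjPt.hI ι)).toLinearMap) =
    Module.finrank k (Coh.HH X ((Scheme.Modules.pullback ι).obj (Twist.twistProjSpace N k (t : ℤ))) 0) := by
  obtain ⟨t₀, ht₀⟩ := exists_surj ι
  refine ⟨t₀, fun t ht => ?_⟩
  let f := K330.FormSec.formSec (d := t) X ι hι
  let g : LefPen.Form N k t →ₗ[k] (MvPolynomial (Fin (N + 1)) k ⧸ K467.ProjPt.hI ι) :=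
    (Ideal.Quotient.mkₐ k (K467.ProjPt.hI ι)).toLinearMap ∘ₗ
      (MvPolynomial.homogeneousSubmodule (Fin (N + 1)) k t).subtype
  have hfs : LinearMap.range f = ⊤ := by
    rw [LinearMap.range_eq_top]
    intro y
    obtain ⟨G, hG⟩ := ht₀ t ht (CurvesB.HZero.equivAdd _ y)
    refine ⟨G, ?_⟩
    apply (CurvesB.HZero.equivAdd _).injective
    rw [← hG]
    exact (CurvesB.HZero.equivAdd _).apply_symm_apply _
  have hker : LinearMap.ker f = LinearMap.ker g := by
    ext G
    rw [LinearMap.mem_ker, LinearMap.mem_ker]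
    have h1 : f G = 0 ↔ K330.FormSec.sec' ι G = 0 := by
      constructor
      · intro h
        have h2 := congrArg (CurvesB.HZero.equivAdd _) h
        rw [map_zero] at h2
        exact ((CurvesB.HZero.equivAdd _).apply_symm_apply _).symm.trans h2
      · intro h
        exact (congrArg (CurvesB.HZero.equivAdd _).symm h).trans (map_zero _)
    rw [h1, sec'_eq_zero_iff_mem]
    exact Ideal.Quotient.eq_zero_iff_mem.symm
  have hrange : LinearMap.range g = (MvPolynomial.homogeneousSubmodule (Fin (N + 1)) k t).map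
      (Ideal.Quotient.mkₐ k (K467.ProjPt.hI ι)).toLinearMap := by
    rw [LinearMap.range_comp, Submodule.range_subtype]
  rw [← hrange]
  rw [← (LinearMap.quotKerEquivRange g).finrank_eq, ← hker, (LinearMap.quotKerEquivRange f).finrank_eq,
    hfs]
  exact finrank_top _ _

include hι in
theorem exists_hf_eq : ∃ t₀ : ℕ, ∀ t : ℕ, t₀ ≤ t →
    K243.Hilb.hf k ι N (Coh.structureModule X) (t : ℤ) =
    (Module.finrank k (Coh.HH X ((Scheme.Modules.pullback ι).obj (Twist.twistProjSpace N k (t : ℤ))) 0) : ℤ) := by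
  have hN : IsLocallyNoetherian X := by
    have h := K243.Base.isProper_of ι hι
    have := Fga.IntAdd.isNoetherian k X
    infer_instance
  obtain ⟨t₀, ht₀⟩ := Groth.Agent.S5749.result k N X ι hι (Coh.structureModule X)
    (K243.Hilb.isCoh_invertible (Fdesc.LocGen.isInvertible_structureModule (X := X)))
  refine ⟨t₀.toNat, fun t ht => ?_⟩
  have h1 := ht₀ (t : ℤ) (by omega)
  have h2 : ∀ M : X.Modules, ∀ j : ℕ, (Module.length k (Coh.HH X M j)).toNat = Module.finrank k (Coh.HH X M j) := by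
    intro M j
    rw [Module.length_eq_rank]
    rfl
  simp only [h2] at h1
  refine h1.trans ?_
  have e : CohB1.tensorMod (Coh.structureModule X)
      ((Scheme.Modules.pullback ι).obj (Twist.twistProjSpace N k (t : ℤ))) ≅
      (Scheme.Modules.pullback ι).obj (Twist.twistProjSpace N k (t : ℤ)) := Ega2.Tens.lunit _
  rw [(Fga.PicMon.hmapEquiv k X e 0).finrank_eq]

include hι in
theorem tendsto_aux [IsIntegral X] (r : ℕ) (hdim : topologicalKrullDim X = r) :
    Tendsto (fun t : ℕ => (Module.finrank k ((MvPolynomial.homogeneousSubmodule (Fin (N + 1)) k t).map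
      (Ideal.Quotient.mkₐ k (K467.ProjPt.hI ι)).toLinearMap) : ℝ) / (t : ℝ) ^ r) atTop
      (𝓝 ((FGA.intNum k X r (fun _ : Fin r => (Scheme.Modules.pullback ι).obj (Twist.twistProjSpace N k (-1)))
        (Coh.structureModule X) : ℝ) / (r.factorial : ℝ))) := by
  have hP := K243.Base.isProper_of ι hι
  have hN := Fga.IntAdd.isNoetherian k X
  have hdimN : topologicalKrullDim X ≤ (N : WithBot ℕ∞) :=
    (ι.isClosedEmbedding.isInducing.topologicalKrullDim_le).trans (CohqA.ProjDim.topologicalKrullDim_le k N)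
  have hhf : K243.Hilb.hf k ι N (Coh.structureModule X) = K243.Hilb.hf k ι r (Coh.structureModule X) := by
    funext m
    rw [K243.Hilb.hf, K243.Hilb.hf, Fga.EulerLEAdd.eulerCharLE_eq_euler k X N hdimN,
      Fga.EulerLEAdd.eulerCharLE_eq_euler k X r hdim.le]
  have hcoh : Coh.IsCoh (Coh.structureModule X) :=
    K243.Hilb.isCoh_invertible (Fdesc.LocGen.isInvertible_structureModule (X := X))
  have hnab : K243.Diff.nab^[r + 1] (K243.Hilb.hf k ι r (Coh.structureModule X)) = 0 := by
    refine K243.Hilb.nab_hf k ι r hdim.le _ hcoh ?_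
    rw [K243.Hilb.dim_support_invertible (Fdesc.LocGen.isInvertible_structureModule (X := X)), hdim]
    exact_mod_cast Nat.lt_succ_self r
  have h1 := DiffLim.tendsto_of_nab r hnab
  rw [← K243.Hilb.intNum_const_zero] at h1
  refine h1.congr' ?_
  obtain ⟨t₁, ht₁⟩ := exists_finrank_eq k ι hι
  obtain ⟨t₂, ht₂⟩ := exists_hf_eq k ι hι
  filter_upwards [eventually_ge_atTop t₁, eventually_ge_atTop t₂] with t h₁ h₂
  rw [ht₁ t h₁, ← hhf, ht₂ t h₂]
  rfl

end

theorem tendsto_hilb (k : Type u) [Field k] {N : ℕ} {X : Scheme.{u}} (ι : X ⟶ CohB1.ProjSpace N k)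
    [IsClosedImmersion ι] [IsIntegral X] (r : ℕ) (hdim : topologicalKrullDim X = r) :
    letI : X.Over (Spec (CommRingCat.of k)) := ⟨ι ≫ CohB1.ProjSpace.toSpec N k⟩
    Tendsto (fun t : ℕ => (Module.finrank k ((MvPolynomial.homogeneousSubmodule (Fin (N + 1)) k t).map
      (Ideal.Quotient.mkₐ k (K467.ProjPt.hI ι)).toLinearMap) : ℝ) / (t : ℝ) ^ r) atTop
      (𝓝 ((FGA.intNum k X r (fun _ : Fin r => (Scheme.Modules.pullback ι).obj (Twist.twistProjSpace N k (-1)))
        (Coh.structureModule X) : ℝ) / (r.factorial : ℝ))) := by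
  letI : X.Over (Spec (CommRingCat.of k)) := ⟨ι ≫ CohB1.ProjSpace.toSpec N k⟩
  exact tendsto_aux k ι rfl r hdim

end K675.Hilb
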